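import Groth.Agent.Lib.PBC24.Kummer

/-!
# Classes in degree two of constant coefficients coming from line bundles
-/

set_option autoImplicit false
set_option linter.style.haveILetI false
set_option backward.isDefEq.respectTransparency.types false
universe u

open CategoryTheory CategoryTheory.Limits AlgebraicGeometry Opposite CategoryTheory.Abelian Polynomial

noncomputable section

namespace Groth.Agent.BrHens19

open Groth.Agent Groth.Agent.Kummer24 Groth.Agent.PBC24

variable {S : Scheme.{u}} {n : ℕ} {W Z : Scheme.{u}} (i : Z ⟶ W) [PreservesFiniteLimits (EtCoh.pull i)]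

/-- The degree two comparison for `ℤ/n`. -/
theorem delta_surjective_two (hunitW : IsUnit (n : Γ(W, ⊤))) (ζW : Γ(W, ⊤))
    (hζW : Polynomial.aeval ζW (Polynomial.cyclotomic n ℤ) = 0)
    (hvan : ∀ x : EtCoh.H Z (EtCoh.Gm Z) 2, n • x = 0 → x = 0)
    (hlift : Function.Surjective (EtLim.HGmPull i 1)) (hn : 1 ≤ n) :
    ∀ c : EtCoh.H Z ((EtCoh.pull i).obj (EtCoh.const W (ZMod n))) 2, ∃ L : EtCoh.H W (EtCoh.Gm W) 1,
      EtCore.Hpull i (EtCoh.const W (ZMod n)) 2
        (L.comp (kummerSeq_shortExact hn hunitW ζW hζW).extClass rfl) = c := by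
  intro c
  have hunitZ : IsUnit (n : Γ(Z, ⊤)) := by
    have h := hunitW.map i.appTop.hom
    rwa [map_natCast] at h
  have hζZ : Polynomial.aeval (i.appTop ζW) (Polynomial.cyclotomic n ℤ) = 0 := by
    have h := congrArg i.appTop.hom hζW
    rw [map_zero, aeval_def, hom_eval₂] at h
    rw [aeval_def]
    convert h using 2
    exact RingHom.ext_int _ _
  let SW := kummerSeq hn ζW hζW
  let SZ := kummerSeq hn (i.appTop ζW) hζZ
  have hSW := kummerSeq_shortExact hn hunitW ζW hζW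
  have hSZ := kummerSeq_shortExact hn hunitZ (i.appTop ζW) hζZ
  let e := EtCore.pullConst i (ZMod n)
  let c' : EtCoh.H Z (EtCoh.const Z (ZMod n)) 2 := c.comp (Ext.mk₀ e.hom) (add_zero 2)
  have h0 : c'.comp (Ext.mk₀ SZ.f) (add_zero 2) = 0 := by
    refine hvan _ ?_
    refine (Dix24.comp_mk₀_nsmul_id n _).symm.trans ?_
    refine (Ext.comp_assoc_of_third_deg_zero _ _ _ _).trans ?_
    refine (congrArg (fun z => Ext.comp c' z (add_zero 2))
      ((Ext.mk₀_comp_mk₀ SZ.f SZ.g).trans ((congrArg Ext.mk₀ SZ.zero).trans (Ext.mk₀_zero _ _)))).trans ?_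
    exact Ext.comp_zero _ _ _ _ _
  obtain ⟨y, hy⟩ := Ext.covariant_sequence_exact₁ _ hSZ c' h0 (n₀ := 1) rfl
  obtain ⟨L, hL⟩ := hlift y
  haveI : (EtCoh.pull i).Additive := EtCore.pull_additive i
  let α : SW.map (EtCoh.pull i) ⟶ SZ :=
    { τ₁ := e.hom
      τ₂ := gmComp i
      τ₃ := gmComp i
      comm₁₂ := by
        show e.hom ≫ zetaMap hn (i.appTop ζW) hζZ = (EtCoh.pull i).map (zetaMap hn ζW hζW) ≫ gmComp i
        rw [← zetaMap_natural hn i ζW hζW hζZ]
        exact e.hom_inv_id_assoc _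
      comm₂₃ := by
        show gmComp i ≫ EtCoh.powMap Z n = (EtCoh.pull i).map (EtCoh.powMap W n) ≫ gmComp i
        rw [EtCoh.powMap, EtCoh.powMap, Functor.map_nsmul, CategoryTheory.Functor.map_id,
          Preadditive.comp_nsmul, Preadditive.nsmul_comp, Category.comp_id, Category.id_comp] }
  refine ⟨L, ?_⟩
  have hG : (EtCore.Hpull i (EtCoh.Gm W) 1 L).comp (Ext.mk₀ (gmComp i)) (add_zero 1) = y := by
    rw [← hL]
    show _ = EtLim.HofPush i (EtCoh.Gm Z) 1 (L.comp (Ext.mk₀ (EtLim.GmPush i)) (add_zero 1))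
    rw [EtStalk.HofPush_apply, EtStalk.Hpull_eq, Ext.mapExactFunctor_comp, Ext.mapExactFunctor_mk₀, gmComp,
      ← Ext.mk₀_comp_mk₀]
    simp only [Ext.comp_assoc_of_third_deg_zero, Ext.comp_assoc_of_second_deg_zero]
  have key : (EtCore.Hpull i (EtCoh.const W (ZMod n)) 2 (L.comp hSW.extClass rfl)).comp (Ext.mk₀ e.hom)
      (add_zero 2) = c' := by
    rw [← hy, ← hG]
    erw [EtAcyc24.Hpull_delta i hSW L]
    refine (Ext.comp_assoc_of_third_deg_zero _ _ _ _).trans ?_
    erw [ShortComplex.ShortExact.extClass_naturality (hSW.map_of_exact (EtCoh.pull i)) hSZ α]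
    exact (Ext.comp_assoc_of_second_deg_zero _ _ _ _).symm
  have h2 := congrArg (fun z => z.comp (Ext.mk₀ e.inv) (add_zero 2)) key
  simp only [c', Ext.comp_assoc_of_third_deg_zero, Ext.mk₀_comp_mk₀, e.hom_inv_id, Ext.comp_mk₀_id] at h2
  exact h2


/-- If constant coefficients compare injectively in degree two, torsion of order `n` in `H²(G_m)` dies. -/
theorem eq_zero_of_nsmul (hunitW : IsUnit (n : Γ(W, ⊤))) (ζW : Γ(W, ⊤))
    (hζW : Polynomial.aeval ζW (Polynomial.cyclotomic n ℤ) = 0)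
    (hvan : ∀ x : EtCoh.H Z (EtCoh.Gm Z) 2, n • x = 0 → x = 0)
    (hlift : Function.Surjective (EtLim.HGmPull i 1)) (hn : 1 ≤ n)
    (hinj : Function.Injective (EtCore.Hpull i (EtCoh.const W (ZMod n)) 2))
    (x : EtCoh.H W (EtCoh.Gm W) 2) (hx : n • x = 0) : x = 0 := by
  let SW := kummerSeq hn ζW hζW
  have hSW := kummerSeq_shortExact hn hunitW ζW hζW
  have h0 : x.comp (Ext.mk₀ SW.g) (add_zero 2) = 0 := (Dix24.comp_mk₀_nsmul_id n x).trans hx
  obtain ⟨c, hc⟩ := Ext.covariant_sequence_exact₂ _ hSW x h0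
  obtain ⟨L, hL⟩ := delta_surjective_two i hunitW ζW hζW hvan hlift hn (EtCore.Hpull i _ 2 c)
  rw [← hc, ← hinj hL]
  refine (Ext.comp_assoc_of_third_deg_zero _ _ _ _).trans ?_
  erw [ShortComplex.ShortExact.extClass_comp hSW]
  exact Ext.comp_zero _ _ _ _ _

end Groth.Agent.BrHens19
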